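import Mathlib.AlgebraicGeometry.IdealSheaf.Subscheme
import Mathlib.AlgebraicGeometry.Morphisms.ClosedImmersion
import Mathlib.AlgebraicGeometry.Morphisms.FinitePresentation

/-!
A property of morphisms into a scheme which is given on affine opens by vanishing of ideals is
represented by a closed subscheme.
-/

universe u

open CategoryTheory AlgebraicGeometry TopologicalSpace Opposite

namespace Groth.L13.FixedLocus

theorem exists_closedImmersion_of_ideals {S : Scheme.{u}} (P : ∀ (Y : Scheme.{u}), (Y ⟶ S) → Prop)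
    (hcomp : ∀ (Y Z : Scheme.{u}) (h : Z ⟶ Y) (g : Y ⟶ S), P Y g → P Z (h ≫ g))
    (hloc : ∀ (Y : Scheme.{u}) (g : Y ⟶ S), (∀ y : Y, ∃ W : Y.Opens, y ∈ W ∧ P W (W.ι ≫ g)) → P Y g)
    (I : ∀ U : S.affineOpens, Ideal Γ(S, U.1))
    (hI : ∀ (U : S.affineOpens) (R : CommRingCat.{u}) (φ : Γ(S, U.1) ⟶ R),
      P (Spec R) (Spec.map φ ≫ U.2.fromSpec) ↔ I U ≤ RingHom.ker φ.hom) :
    ∃ (T : Scheme.{u}) (t : T ⟶ S), IsClosedImmersion t ∧
      (∀ U : S.affineOpens, RingHom.ker (t.app U.1).hom = I U) ∧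
      ∀ (Y : Scheme.{u}) (g : Y ⟶ S), (∃ g' : Y ⟶ T, g' ≫ t = g) ↔ P Y g := by
  have hmap : ∀ (U : S.affineOpens) (f : Γ(S, U.1)),
      (I U).map (S.presheaf.map (homOfLE <| S.basicOpen_le f).op).hom = I (S.affineBasicOpen f) := by
    intro U f
    let ρ : Γ(S, U.1) ⟶ Γ(S, (S.affineBasicOpen f).1) := S.presheaf.map (homOfLE <| S.basicOpen_le f).op
    have hρ : Spec.map ρ ≫ U.2.fromSpec = (S.affineBasicOpen f).2.fromSpec :=
      U.2.map_fromSpec (S.affineBasicOpen f).2 _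
    have key : ∀ (R : CommRingCat.{u}) (φ : Γ(S, (S.affineBasicOpen f).1) ⟶ R),
        I (S.affineBasicOpen f) ≤ RingHom.ker φ.hom ↔ (I U).map ρ.hom ≤ RingHom.ker φ.hom := by
      intro R φ
      rw [← hI, Ideal.map_le_iff_le_comap, RingHom.comap_ker, ← CommRingCat.hom_comp, ← hI]
      show _ ↔ P (Spec R) (Spec.map (ρ ≫ φ) ≫ U.2.fromSpec)
      rw [Spec.map_comp, Category.assoc, hρ]
    refine le_antisymm ?_ ?_
    · have := (key (CommRingCat.of (_ ⧸ I (S.affineBasicOpen f))) (CommRingCat.ofHom (Ideal.Quotient.mk _))).1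
        (by rw [CommRingCat.hom_ofHom, Ideal.mk_ker])
      rwa [CommRingCat.hom_ofHom, Ideal.mk_ker] at this
    · have := (key (CommRingCat.of (_ ⧸ (I U).map ρ.hom)) (CommRingCat.ofHom (Ideal.Quotient.mk _))).2
        (by rw [CommRingCat.hom_ofHom, Ideal.mk_ker])
      rwa [CommRingCat.hom_ofHom, Ideal.mk_ker] at this
  let 𝓘 : S.IdealSheafData := { ideal := I, map_ideal_basicOpen := hmap }
  refine ⟨𝓘.subscheme, 𝓘.subschemeι, inferInstance, fun U => 𝓘.ker_subschemeι_app U, fun Y g => ?_⟩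
  have hpiece : ∀ (U : S.affineOpens) (W : Y.Opens) (hW : IsAffineOpen W) (hle : W ≤ g ⁻¹ᵁ U.1),
      P (W : Scheme.{u}) (W.ι ≫ g) ↔ I U ≤ RingHom.ker (g.appLE U.1 W hle).hom := by
    intro U W hW hle
    rw [← hI, IsAffineOpen.SpecMap_appLE_fromSpec g U.2 hW hle]
    constructor
    · intro h
      rw [← IsAffineOpen.isoSpec_inv_ι, Category.assoc]
      exact hcomp _ _ _ _ h
    · intro h
      have := hcomp _ _ hW.isoSpec.hom _ h
      rwa [← IsAffineOpen.isoSpec_inv_ι, Category.assoc, Iso.hom_inv_id_assoc] at this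
  constructor
  · rintro ⟨g', rfl⟩
    refine hloc _ _ fun y => ?_
    obtain ⟨_, ⟨U, hU', rfl⟩, hyU, -⟩ :=
      S.isBasis_affineOpens.exists_subset_of_mem_open (Set.mem_univ ((g' ≫ 𝓘.subschemeι) y)) isOpen_univ
    obtain ⟨_, ⟨W, hW, rfl⟩, hyW, hWU⟩ := Y.isBasis_affineOpens.exists_subset_of_mem_open
      (show y ∈ ((g' ≫ 𝓘.subschemeι) ⁻¹ᵁ U : Set Y) from hyU) ((g' ≫ 𝓘.subschemeι) ⁻¹ᵁ U).2
    refine ⟨W, hyW, (hpiece ⟨U, hU'⟩ W hW hWU).2 fun r hr => ?_⟩
    have h2 : r ∈ RingHom.ker (𝓘.subschemeι.app U).hom := by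
      rw [𝓘.ker_subschemeι_app ⟨U, hU'⟩]
      exact hr
    rw [RingHom.mem_ker] at h2 ⊢
    show Y.presheaf.map _ (g'.app _ (𝓘.subschemeι.app U r)) = 0
    rw [h2, map_zero, map_zero]
  · intro h
    have hle : 𝓘 ≤ g.ker := by
      refine Scheme.IdealSheafData.le_ofIdeals_iff.2 fun U r hr => ?_
      rw [RingHom.mem_ker]
      refine TopCat.Sheaf.eq_of_locally_eq' ⟨Y.presheaf, Y.IsSheaf⟩
        (fun W : {W : Y.Opens // IsAffineOpen W ∧ W ≤ g ⁻¹ᵁ U.1} => W.1) (g ⁻¹ᵁ U.1)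
        (fun W => homOfLE W.2.2) ?_ _ _ fun W => ?_
      · intro y hy
        obtain ⟨_, ⟨W, hW, rfl⟩, hyW, hWU⟩ :=
          Y.isBasis_affineOpens.exists_subset_of_mem_open (show y ∈ (g ⁻¹ᵁ U.1 : Set Y) from hy) (g ⁻¹ᵁ U.1).2
        exact Opens.mem_iSup.2 ⟨⟨W, hW, hWU⟩, hyW⟩
      · have := RingHom.mem_ker.1 ((hpiece U W.1 W.2.1 W.2.2).1 (hcomp _ _ W.1.ι g h) hr)
        exact this.trans (map_zero _).symm
    exact ⟨g.toImage ≫ Scheme.IdealSheafData.inclusion hle,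
      by rw [Category.assoc, Scheme.IdealSheafData.inclusion_subschemeι]; exact g.toImage_imageι⟩

theorem exists_closedImmersion_of_affine {S : Scheme.{u}} (P : ∀ (Y : Scheme.{u}), (Y ⟶ S) → Prop)
    (hcomp : ∀ (Y Z : Scheme.{u}) (h : Z ⟶ Y) (g : Y ⟶ S), P Y g → P Z (h ≫ g))
    (hloc : ∀ (Y : Scheme.{u}) (g : Y ⟶ S), (∀ y : Y, ∃ W : Y.Opens, y ∈ W ∧ P W (W.ι ≫ g)) → P Y g)
    (hU : ∀ U : S.affineOpens, ∃ I : Ideal Γ(S, U.1), ∀ (R : CommRingCat.{u}) (φ : Γ(S, U.1) ⟶ R),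
      P (Spec R) (Spec.map φ ≫ U.2.fromSpec) ↔ I ≤ RingHom.ker φ.hom) :
    ∃ (T : Scheme.{u}) (t : T ⟶ S), IsClosedImmersion t ∧
      ∀ (Y : Scheme.{u}) (g : Y ⟶ S), (∃ g' : Y ⟶ T, g' ≫ t = g) ↔ P Y g := by
  choose I hI using hU
  obtain ⟨T, t, ht, -, h⟩ := exists_closedImmersion_of_ideals P hcomp hloc I hI
  exact ⟨T, t, ht, h⟩

/-- A closed immersion whose ideals on affine opens are finitely generated is of finite presentation. -/
theorem locallyOfFinitePresentation_of_fg {S T : Scheme.{u}} (t : T ⟶ S) [IsClosedImmersion t]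
    (h : ∀ U : S.affineOpens, (RingHom.ker (t.app U.1).hom).FG) : LocallyOfFinitePresentation t := by
  refine IsZariskiLocalAtTarget.of_iSup_eq_top (P := @LocallyOfFinitePresentation)
    (fun U : S.affineOpens => U.1) (iSup_affineOpens_eq_top S) fun U => ?_
  haveI : IsAffine (U.1 : Scheme.{u}) := U.2
  haveI : IsAffine (t ⁻¹ᵁ U.1 : Scheme.{u}) := U.2.preimage t
  rw [HasRingHomProperty.iff_of_isAffine (P := @LocallyOfFinitePresentation)]
  haveI : IsClosedImmersion (t ∣_ U.1) := IsZariskiLocalAtTarget.restrict ‹_› _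
  refine RingHom.FinitePresentation.of_surjective _
    ((t ∣_ U.1).app_surjective ⊤ (isAffineOpen_top _)) ?_
  have hfg : (RingHom.ker (t.app (U.1.ι ''ᵁ ⊤)).hom).FG := by
    rw [Scheme.Opens.ι_image_top]
    exact h U
  have key : RingHom.ker (t ∣_ U.1).appTop.hom = RingHom.ker (t.app (U.1.ι ''ᵁ ⊤)).hom := by
    ext x
    refine RingHom.mem_ker.trans (Iff.trans ?_ RingHom.mem_ker.symm)
    refine (iff_of_eq (congrArg (fun f => f.hom x = 0) (morphismRestrict_appTop t U.1))).trans ?_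
    exact map_eq_zero_iff (T.presheaf.map (eqToHom (image_morphismRestrict_preimage t U.1 ⊤)).op).hom
      (ConcreteCategory.bijective_of_isIso
        (T.presheaf.map (eqToHom (image_morphismRestrict_preimage t U.1 ⊤)).op)).1
  exact key ▸ hfg

end Groth.L13.FixedLocus
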