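import Groth.Agent.L13.FixedLocus.Main
import Mathlib.AlgebraicGeometry.Morphisms.Finite
import Mathlib.AlgebraicGeometry.Morphisms.Flat
import Mathlib.RingTheory.Finiteness.ModuleFinitePresentation
import Mathlib.RingTheory.Flat.EquationalCriterion

/-!
The locus over which two morphisms out of a finite flat scheme agree.
-/

universe u

open CategoryTheory AlgebraicGeometry Limits TensorProduct

namespace Groth.L13.FixedLocus

theorem exists_fg_ideal_of_fg {B M : Type u} [CommRing B] [CommRing M] [Algebra B M]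
    [Module.Finite B M] [Module.Projective B M] (J : Ideal M) (hJ : J.FG) :
    ∃ I : Ideal B, I.FG ∧ ∀ (R : Type u) [CommRing R] [Algebra B R],
      (∀ x ∈ J, (1 : R) ⊗ₜ[B] x = 0) ↔ I ≤ RingHom.ker (algebraMap B R) := by
  classical
  obtain ⟨s, rfl⟩ := hJ
  obtain ⟨n, π, σ, -, -, hπσ⟩ := Module.Finite.exists_comp_eq_id_of_projective B M
  let T : Set B := Set.range fun x : {x // x ∈ s} × Fin n => σ x.1.1 x.2
  refine ⟨Ideal.span T, ⟨(Set.finite_range _).toFinset, by rw [Set.Finite.coe_toFinset]⟩, fun R _ _ => ?_⟩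
  have hgen : (∀ x ∈ Ideal.span (s : Set M), (1 : R) ⊗ₜ[B] x = 0) ↔ ∀ x ∈ (s : Set M), (1 : R) ⊗ₜ[B] x = 0 := by
    refine ⟨fun h x hx => h x (Ideal.subset_span hx), fun h x hx => ?_⟩
    let ι₀ := (Algebra.TensorProduct.includeRight : M →ₐ[B] R ⊗[B] M).toRingHom
    have hle : Ideal.span (s : Set M) ≤ RingHom.ker ι₀ :=
      Ideal.span_le.2 fun y hy => RingHom.mem_ker.2 (show ι₀ y = 0 from h y hy)
    have h' : ι₀ x = 0 := hle hx
    exact h'
  rw [hgen]
  constructor
  · intro h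
    refine Ideal.span_le.2 ?_
    rintro _ ⟨⟨⟨x, hx⟩, i⟩, rfl⟩
    have := congrArg (TensorProduct.rid B R ∘ LinearMap.lTensor R ((LinearMap.proj i) ∘ₗ σ)) (h x hx)
    simp only [Function.comp_apply, LinearMap.lTensor_tmul, TensorProduct.rid_tmul, map_zero] at this
    rw [SetLike.mem_coe, RingHom.mem_ker, Algebra.algebraMap_eq_smul_one]
    exact this
  · intro h x hx
    have hx' : x = ∑ i, σ x i • π (Pi.single i 1) := by
      conv_lhs => rw [← LinearMap.id_apply (R := B) x, ← hπσ, LinearMap.comp_apply]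
      conv_lhs => rw [pi_eq_sum_univ' (σ x), map_sum]
      exact Finset.sum_congr rfl fun i _ => by rw [map_smul]
    rw [hx', TensorProduct.tmul_sum]
    refine Finset.sum_eq_zero fun i _ => ?_
    rw [← TensorProduct.smul_tmul, ← Algebra.algebraMap_eq_smul_one,
      RingHom.mem_ker.1 (h (Ideal.subset_span ⟨(⟨x, hx⟩, i), rfl⟩)), TensorProduct.zero_tmul]

theorem exists_closedImmersion_fp_of_finite {G W X S : Scheme.{u}} (f : W ⟶ G) [IsFinite f] [Flat f]
    [LocallyOfFinitePresentation f] {p : X ⟶ S} [IsSeparated p]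
    [LocallyOfFinitePresentation (pullback.diagonal p)] (a b : W ⟶ X) (hab : a ≫ p = b ≫ p) :
    ∃ (T : Scheme.{u}) (t : T ⟶ G), IsClosedImmersion t ∧ LocallyOfFinitePresentation t ∧
      ∀ (Z : Scheme.{u}) (g : Z ⟶ G), (∃ g' : Z ⟶ T, g' ≫ t = g) ↔
        pullback.fst f g ≫ a = pullback.fst f g ≫ b := by
  have hU : ∀ U : G.affineOpens, ∃ I : Ideal Γ(G, U.1), I.FG ∧ ∀ (R : CommRingCat.{u}) (φ : Γ(G, U.1) ⟶ R),
      pullback.fst f (Spec.map φ ≫ U.2.fromSpec) ≫ a = pullback.fst f (Spec.map φ ≫ U.2.fromSpec) ≫ b ↔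
        I ≤ RingHom.ker φ.hom := by
    intro U
    have hV : IsAffineOpen (f ⁻¹ᵁ U.1) := U.2.preimage f
    have hq : IsPullback hV.fromSpec (Spec.map (f.app U.1)) f U.2.fromSpec := by
      refine ((isPullback_morphismRestrict f U.1).flip).of_iso hV.isoSpec (Iso.refl _) U.2.isoSpec (Iso.refl _)
        ?_ ?_ ?_ ?_
      · rw [Iso.refl_hom, Category.comp_id, IsAffineOpen.isoSpec_hom, hV.toSpecΓ_fromSpec]
      · rw [← cancel_mono U.2.fromSpec, Category.assoc, Category.assoc, IsAffineOpen.isoSpec_hom,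
          U.2.toSpecΓ_fromSpec, morphismRestrict_ι, IsAffineOpen.isoSpec_hom]
        have h := IsAffineOpen.SpecMap_appLE_fromSpec f U.2 hV le_rfl
        rw [← Scheme.Hom.app_eq_appLE] at h
        rw [h, ← Category.assoc, hV.toSpecΓ_fromSpec]
      · simp
      · rw [Iso.refl_hom, Category.comp_id, IsAffineOpen.isoSpec_hom, U.2.toSpecΓ_fromSpec]
    letI : Algebra Γ(G, U.1) Γ(W, f ⁻¹ᵁ U.1) := (f.app U.1).hom.toAlgebra
    haveI : Module.Finite Γ(G, U.1) Γ(W, f ⁻¹ᵁ U.1) := IsFinite.finite_app f U.1 U.2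
    haveI : Algebra.FinitePresentation Γ(G, U.1) Γ(W, f ⁻¹ᵁ U.1) := by
      have := f.finitePresentation_appLE U.2 hV le_rfl
      rwa [← Scheme.Hom.app_eq_appLE] at this
    haveI : Module.Flat Γ(G, U.1) Γ(W, f ⁻¹ᵁ U.1) := by
      have := f.flat_appLE U.2 hV le_rfl
      rwa [← Scheme.Hom.app_eq_appLE] at this
    haveI := Module.FinitePresentation.of_finite_of_finitePresentation (R := Γ(G, U.1)) (S := Γ(W, f ⁻¹ᵁ U.1))
    haveI : Module.Projective Γ(G, U.1) Γ(W, f ⁻¹ᵁ U.1) := Module.Flat.projective_of_finitePresentation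
    obtain ⟨J, hJfg, hJ⟩ := exists_ideal_equalizer (M := Γ(W, f ⁻¹ᵁ U.1)) (p := p) (hV.fromSpec ≫ a) (hV.fromSpec ≫ b)
      (by rw [Category.assoc, Category.assoc, hab])
    obtain ⟨I, hIfg, hI⟩ := exists_fg_ideal_of_fg (B := Γ(G, U.1)) J (hJfg inferInstance)
    refine ⟨I, hIfg, fun R φ => ?_⟩
    letI : Algebra Γ(G, U.1) R := φ.hom.toAlgebra
    let M := Γ(W, f ⁻¹ᵁ U.1)
    have hR : IsPullback
        (Spec.map (CommRingCat.ofHom (Algebra.TensorProduct.includeRight : M →ₐ[Γ(G, U.1)] R ⊗[Γ(G, U.1)] M).toRingHom) ≫ hV.fromSpec)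
        (Spec.map (CommRingCat.ofHom (algebraMap R (R ⊗[Γ(G, U.1)] M)))) f (Spec.map φ ≫ U.2.fromSpec) := by
      refine IsPullback.paste_horiz ?_ hq
      refine ((IsPullback.of_hasPullback (Spec.map (CommRingCat.ofHom (algebraMap Γ(G, U.1) R)))
        (Spec.map (CommRingCat.ofHom (algebraMap Γ(G, U.1) M)))).flip).of_iso
          (pullbackSpecIso Γ(G, U.1) R M) (Iso.refl _) (Iso.refl _) (Iso.refl _) ?_ ?_ ?_ ?_
      · rw [Iso.refl_hom, Category.comp_id]
        exact (pullbackSpecIso_hom_snd Γ(G, U.1) R M).symm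
      · rw [Iso.refl_hom, Category.comp_id]
        exact (pullbackSpecIso_hom_fst' Γ(G, U.1) R M).symm
      · simp [RingHom.algebraMap_toAlgebra]
      · simp [RingHom.algebraMap_toAlgebra]
    rw [← hR.isoPullback_inv_fst]
    simp only [Category.assoc, cancel_epi]
    rw [hJ, show RingHom.ker φ.hom = RingHom.ker (algebraMap Γ(G, U.1) R) from rfl, ← hI]
    exact Iff.rfl
  choose I hIfg hI using hU
  have hcomp : ∀ (Z Z' : Scheme.{u}) (h : Z' ⟶ Z) (g : Z ⟶ G),
      pullback.fst f g ≫ a = pullback.fst f g ≫ b → pullback.fst f (h ≫ g) ≫ a = pullback.fst f (h ≫ g) ≫ b := by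
    intro Z Z' h g hg
    let m : pullback f (h ≫ g) ⟶ pullback f g :=
      pullback.lift (pullback.fst _ _) (pullback.snd _ _ ≫ h) (by rw [Category.assoc]; exact pullback.condition)
    have hm : pullback.fst f (h ≫ g) = m ≫ pullback.fst f g := (pullback.lift_fst _ _ _).symm
    rw [hm, Category.assoc, Category.assoc, hg]
  have hloc : ∀ (Z : Scheme.{u}) (g : Z ⟶ G),
      (∀ z : Z, ∃ V : Z.Opens, z ∈ V ∧ pullback.fst f (V.ι ≫ g) ≫ a = pullback.fst f (V.ι ≫ g) ≫ b) →
        pullback.fst f g ≫ a = pullback.fst f g ≫ b := by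
    intro Z g hg
    choose V hV hVP using hg
    let 𝒰 := Z.openCoverOfIsOpenCover V (TopologicalSpace.IsOpenCover.mk (top_le_iff.1 fun z _ =>
      TopologicalSpace.Opens.mem_iSup.2 ⟨z, hV z⟩))
    refine (Scheme.Cover.hom_ext (𝒰.pullback₁ (pullback.snd f g)) _ _ fun z => ?_)
    let m : pullback (pullback.snd f g) (𝒰.f z) ⟶ pullback f ((V z).ι ≫ g) :=
      pullback.lift (pullback.fst _ _ ≫ pullback.fst f g) (pullback.snd _ _) (by
        show (pullback.fst _ _ ≫ pullback.fst f g) ≫ f = pullback.snd _ _ ≫ 𝒰.f z ≫ g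
        rw [Category.assoc, pullback.condition, ← Category.assoc, pullback.condition, Category.assoc])
    have hm : pullback.fst (pullback.snd f g) (𝒰.f z) ≫ pullback.fst f g = m ≫ pullback.fst f ((V z).ι ≫ g) :=
      (pullback.lift_fst _ _ _).symm
    show pullback.fst _ (𝒰.f z) ≫ _ = pullback.fst _ (𝒰.f z) ≫ _
    rw [reassoc_of% hm, reassoc_of% hm, hVP z]
  obtain ⟨T, t, ht, hker, h⟩ := exists_closedImmersion_of_ideals
    (fun Z g => pullback.fst f g ≫ a = pullback.fst f g ≫ b) hcomp hloc I hI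
  exact ⟨T, t, ht, locallyOfFinitePresentation_of_fg t fun U => hker U ▸ hIfg U, h⟩

end Groth.L13.FixedLocus
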