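import Mathlib.RingTheory.TensorProduct.Maps
import Mathlib.RingTheory.Flat.FaithfullyFlat.Basic
import Mathlib.RingTheory.Flat.FaithfullyFlat.Algebra
import Mathlib.Algebra.Module.Projective
import Mathlib.LinearAlgebra.TensorProduct.Basis
import Mathlib.LinearAlgebra.TensorProduct.RightExactness
import Mathlib.LinearAlgebra.Dual.Defs

/-!
The smallest ideal of the base over which given elements of a module vanish, for modules which become
projective after a faithfully flat extension.
-/

universe u

open TensorProduct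

namespace Groth.L13.FixedLocus

section Proj

variable (C : Type u) [CommRing C] {N : Type u} [AddCommGroup N] [Module C N]

/-- The ideal of coefficients of a set of elements. -/
def coeffIdeal (s : Set N) : Ideal C :=
  Ideal.span {c | ∃ n ∈ s, ∃ l : N →ₗ[C] C, l n = c}

theorem tmul_eq_zero_iff [Module.Projective C N] (s : Set N) (R : Type u) [CommRing R] [Algebra C R] :
    (∀ n ∈ s, (1 : R) ⊗ₜ[C] n = 0) ↔ coeffIdeal C s ≤ RingHom.ker (algebraMap C R) := by
  constructor
  · intro h
    refine Ideal.span_le.2 ?_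
    rintro _ ⟨n, hn, l, rfl⟩
    have := congrArg (TensorProduct.rid C R ∘ LinearMap.lTensor R l) (h n hn)
    simp only [Function.comp_apply, LinearMap.lTensor_tmul, TensorProduct.rid_tmul, map_zero] at this
    rw [SetLike.mem_coe, RingHom.mem_ker, Algebra.algebraMap_eq_smul_one]
    exact this
  · intro h n hn
    obtain ⟨σ, hσ⟩ := Module.projective_def'.1 ‹Module.Projective C N›
    have hn' : n = ∑ i ∈ (σ n).support, σ n i • i := by
      conv_lhs => rw [← LinearMap.id_apply (R := C) n, ← hσ]
      rw [LinearMap.comp_apply, Finsupp.linearCombination_apply, Finsupp.sum]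
      rfl
    rw [hn', TensorProduct.tmul_sum]
    refine Finset.sum_eq_zero fun i _ => ?_
    have hi : σ n i ∈ coeffIdeal C s :=
      Ideal.subset_span ⟨n, hn, (Finsupp.lapply i).comp σ, rfl⟩
    rw [← TensorProduct.smul_tmul, ← Algebra.algebraMap_eq_smul_one, RingHom.mem_ker.1 (h hi),
      TensorProduct.zero_tmul]

end Proj

variable (B C : Type u) [CommRing B] [CommRing C] [Algebra B C] [Module.FaithfullyFlat B C]
  (M : Type u) [AddCommGroup M] [Module B M] [Module.Projective C (C ⊗[B] M)]

include C in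
theorem exists_ideal_forall_iff (s : Set M) :
    ∃ I : Ideal B, ∀ (R : Type u) [CommRing R] [Algebra B R],
      (∀ x ∈ s, (1 : R) ⊗ₜ[B] x = 0) ↔ I ≤ RingHom.ker (algebraMap B R) := by
  let s' : Set (C ⊗[B] M) := (fun x => (1 : C) ⊗ₜ[B] x) '' s
  let I' : Ideal C := coeffIdeal C s'
  have key : ∀ (R : Type u) [CommRing R] [Algebra B R] (β : C →ₐ[B] R),
      (∀ x ∈ s, (1 : R) ⊗ₜ[B] x = 0) ↔ I' ≤ RingHom.ker β := by
    intro R _ _ β
    letI := β.toRingHom.toAlgebra
    haveI : IsScalarTower B C R := IsScalarTower.of_algebraMap_eq fun b => (β.commutes b).symm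
    refine Iff.trans ?_ (tmul_eq_zero_iff C s' R)
    let ε := TensorProduct.AlgebraTensorModule.cancelBaseChange B C R R M
    have hε : ∀ x : M, ε ((1 : R) ⊗ₜ[C] ((1 : C) ⊗ₜ[B] x)) = (1 : R) ⊗ₜ[B] x := fun x => by simp [ε]
    constructor
    · rintro h _ ⟨x, hx, rfl⟩
      exact ε.injective (by rw [hε, h x hx, map_zero])
    · intro h x hx
      rw [← hε, h _ ⟨x, hx, rfl⟩, map_zero]
  have hdesc : I' = (I'.comap (algebraMap B C)).map (algebraMap B C) := by
    refine le_antisymm (fun c hc => ?_) Ideal.map_comap_le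
    let I := I'.comap (algebraMap B C)
    -- the two projections of `C ⊗ C`
    let j₁ : C →ₐ[B] C ⊗[B] C := Algebra.TensorProduct.includeLeft
    let j₂ : C →ₐ[B] C ⊗[B] C := Algebra.TensorProduct.includeRight
    let q : C ⊗[B] C →ₐ[B] C ⊗[B] (C ⧸ I') := Algebra.TensorProduct.map (AlgHom.id B C) (Ideal.Quotient.mkₐ B I')
    have hq2 : I' ≤ RingHom.ker (q.comp j₂) := fun x hx => by
      show (1 : C) ⊗ₜ[B] Ideal.Quotient.mk I' x = 0
      rw [Ideal.Quotient.eq_zero_iff_mem.2 hx, TensorProduct.tmul_zero]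
    have h0 : q (j₁ c) = 0 := (key _ (q.comp j₁)).1 ((key _ (q.comp j₂)).2 hq2) hc
    let g : (B ⧸ I) →ₐ[B] C ⧸ I' :=
      Ideal.Quotient.liftₐ I ((Ideal.Quotient.mkₐ B I').comp (Algebra.ofId B C)) fun x hx =>
        Ideal.Quotient.eq_zero_iff_mem.2 hx
    have hg : Function.Injective g := (injective_iff_map_eq_zero g).2 fun x hx => by
      obtain ⟨x, rfl⟩ := Ideal.Quotient.mk_surjective x
      exact Ideal.Quotient.eq_zero_iff_mem.2 (Ideal.Quotient.eq_zero_iff_mem.1 hx : algebraMap B C x ∈ I')
    have hinj := Module.Flat.lTensor_preserves_injective_linearMap (M := C) g.toLinearMap hg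
    have h1 : (c ⊗ₜ[B] (1 : B ⧸ I) : C ⊗[B] (B ⧸ I)) = 0 := hinj (by
      rw [map_zero, LinearMap.lTensor_tmul]
      show c ⊗ₜ[B] g 1 = 0
      rw [map_one]
      exact h0)
    have h2 := congrArg (TensorProduct.quotTensorEquivQuotSMul C I ∘ TensorProduct.comm B C (B ⧸ I)) h1
    simp only [Function.comp_apply, TensorProduct.comm_tmul, map_zero] at h2
    rw [← map_one (Ideal.Quotient.mk I), TensorProduct.quotTensorEquivQuotSMul_mk_tmul, one_smul,
      Submodule.Quotient.mk_eq_zero] at h2
    refine Submodule.smul_induction_on h2 (fun r hr x _ => ?_) fun x y hx hy => Ideal.add_mem _ hx hy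
    rw [Algebra.smul_def]
    exact Ideal.mul_mem_right _ _ (Ideal.mem_map_of_mem _ hr)
  refine ⟨I'.comap (algebraMap B C), fun R _ _ => ?_⟩
  haveI : Module.FaithfullyFlat R (R ⊗[B] C) := inferInstance
  have hRC : Function.Injective (Algebra.TensorProduct.includeLeft : R →ₐ[B] R ⊗[B] C) :=
    FaithfulSMul.algebraMap_injective R (R ⊗[B] C)
  let j : C →ₐ[B] R ⊗[B] C := Algebra.TensorProduct.includeRight
  constructor
  · intro h b hb
    have h' : ∀ x ∈ s, ((1 : R ⊗[B] C)) ⊗ₜ[B] x = 0 := fun x hx => by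
      have := congrArg (LinearMap.rTensor M (Algebra.TensorProduct.includeLeft : R →ₐ[B] R ⊗[B] C).toLinearMap) (h x hx)
      rw [LinearMap.rTensor_tmul, map_zero] at this
      rwa [show ((Algebra.TensorProduct.includeLeft : R →ₐ[B] R ⊗[B] C).toLinearMap 1) = 1 from rfl] at this
    have hb' : j (algebraMap B C b) = 0 := (key _ j).1 h' hb
    rw [RingHom.mem_ker]
    refine hRC ((?_ : _ = j (algebraMap B C b)).trans (hb'.trans (map_zero _).symm))
    exact ((Algebra.TensorProduct.includeLeft : R →ₐ[B] R ⊗[B] C).commutes b).trans (j.commutes b).symm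
  · intro h x hx
    have hle : I' ≤ RingHom.ker j := by
      rw [hdesc, Ideal.map_le_iff_le_comap]
      intro b hb
      rw [Ideal.mem_comap, RingHom.mem_ker, AlgHom.commutes,
        IsScalarTower.algebraMap_apply B R (R ⊗[B] C), RingHom.mem_ker.1 (h hb), map_zero]
    have h' := (key _ j).2 hle x hx
    have hinj : Function.Injective
        (LinearMap.rTensor M (Algebra.TensorProduct.includeLeft : R →ₐ[B] R ⊗[B] C).toLinearMap) := by
      let e : (R ⊗[B] C) ⊗[B] M ≃ₗ[B] (R ⊗[B] M) ⊗[B] C := TensorProduct.rightComm B R C M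
      have he : ∀ z : R ⊗[B] M, e (LinearMap.rTensor M
          (Algebra.TensorProduct.includeLeft : R →ₐ[B] R ⊗[B] C).toLinearMap z) = z ⊗ₜ[B] (1 : C) := by
        intro z
        induction z using TensorProduct.induction_on with
        | zero => simp
        | tmul r m => simp [e]
        | add z w hz hw => simp only [map_add, hz, hw, TensorProduct.add_tmul]
      have hmk : Function.Injective fun z : R ⊗[B] M => z ⊗ₜ[B] (1 : C) := fun z w hzw =>
        Module.FaithfullyFlat.tensorProduct_mk_injective (A := B) (B := C) (R ⊗[B] M)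
          ((TensorProduct.comm B _ _).injective (by simpa using hzw))
      exact fun z w hzw => hmk ((he z).symm.trans ((congrArg e hzw).trans (he w)))
    exact hinj (by rw [map_zero, LinearMap.rTensor_tmul]; exact h')

end Groth.L13.FixedLocus
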