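import Groth.Agent.L13.FixedLocus.Coeff
import Groth.Agent.L13.FixedLocus.Glue
import Mathlib.AlgebraicGeometry.Pullbacks
import Mathlib.AlgebraicGeometry.Morphisms.Separated
import Mathlib.CategoryTheory.Monoidal.Cartesian.Over
import Mathlib.RingTheory.Flat.FaithfullyFlat.Algebra
import Mathlib.LinearAlgebra.TensorProduct.Tower

/-!
The locus over which two morphisms out of a product with an affine scheme agree is closed when the
affine scheme is projective after a faithfully flat extension of the base.
-/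

universe u

open CategoryTheory AlgebraicGeometry Limits TensorProduct

namespace Groth.L13.FixedLocus

/-- The equalizer of two morphisms from an affine scheme to a separated scheme is given by an ideal. -/
theorem exists_ideal_equalizer {M : Type u} [CommRing M] {Z S : Scheme.{u}} {p : Z ⟶ S} [IsSeparated p]
    (a b : Spec (CommRingCat.of M) ⟶ Z) (hab : a ≫ p = b ≫ p) :
    ∃ J : Ideal M, (LocallyOfFinitePresentation (pullback.diagonal p) → J.FG) ∧ ∀ (R : CommRingCat.{u}) (ψ : CommRingCat.of M ⟶ R),
      Spec.map ψ ≫ a = Spec.map ψ ≫ b ↔ J ≤ RingHom.ker ψ.hom := by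
  let c := pullback.lift a b hab
  let ι := pullback.fst c (pullback.diagonal p)
  haveI : IsClosedImmersion ι := inferInstance
  obtain ⟨J, ⟨i, hi⟩⟩ := IsClosedImmersion.Spec_iff.1 ‹IsClosedImmersion ι›
  refine ⟨J, fun hp => ?_, fun R ψ => ?_⟩
  · haveI : LocallyOfFinitePresentation ι := inferInstance
    haveI : LocallyOfFinitePresentation (Spec.map (CommRingCat.ofHom (Ideal.Quotient.mk J))) := by
      rw [show Spec.map (CommRingCat.ofHom (Ideal.Quotient.mk J)) = i.inv ≫ ι from (Iso.eq_inv_comp i).2 hi.symm]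
      infer_instance
    have hfp : RingHom.FinitePresentation (Ideal.Quotient.mk J) :=
      (LocallyOfFinitePresentation.SpecMap_iff _).1 this
    haveI : Algebra.FinitePresentation M (M ⧸ J) := RingHom.finitePresentation_algebraMap.1 hfp
    have := Algebra.FinitePresentation.ker_fG_of_surjective (Ideal.Quotient.mkₐ M J)
      (Ideal.Quotient.mkₐ_surjective M J)
    have hk : RingHom.ker (Ideal.Quotient.mkₐ M J).toRingHom = J := Ideal.mk_ker
    rwa [hk] at this
  constructor
  · intro h
    let w : Spec R ⟶ pullback c (pullback.diagonal p) :=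
      pullback.lift (Spec.map ψ) (Spec.map ψ ≫ a) (by
        apply pullback.hom_ext
        · simp only [Category.assoc, pullback.diagonal_fst, Category.comp_id]
          exact congrArg (Spec.map ψ ≫ ·) (pullback.lift_fst _ _ _)
        · simp only [Category.assoc, pullback.diagonal_snd, Category.comp_id]
          exact (congrArg (Spec.map ψ ≫ ·) (pullback.lift_snd _ _ _)).trans h.symm)
    obtain ⟨θ, hθ⟩ := Spec.map_surjective (w ≫ i.hom)
    have hψ : ψ = CommRingCat.ofHom (Ideal.Quotient.mk J) ≫ θ := by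
      apply Spec.map_injective
      rw [Spec.map_comp, hθ, Category.assoc, ← hi]
      simp only [Category.assoc, Iso.hom_inv_id_assoc, w, ι]
      exact (pullback.lift_fst _ _ _).symm
    intro x hx
    rw [RingHom.mem_ker, hψ]
    show θ (Ideal.Quotient.mk J x) = 0
    rw [Ideal.Quotient.eq_zero_iff_mem.2 hx, map_zero]
  · intro h
    let θ : CommRingCat.of (M ⧸ J) ⟶ R :=
      CommRingCat.ofHom (Ideal.Quotient.lift J ψ.hom fun x hx => RingHom.mem_ker.1 (h hx))
    have hψ : ψ = CommRingCat.ofHom (Ideal.Quotient.mk J) ≫ θ := by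
      ext x
      rfl
    have heq : ι ≫ a = ι ≫ b := by
      have h1 := congrArg (fun t => t ≫ pullback.fst p p) (pullback.condition (f := c) (g := pullback.diagonal p))
      have h2 := congrArg (fun t => t ≫ pullback.snd p p) (pullback.condition (f := c) (g := pullback.diagonal p))
      simp only [c, Category.assoc, pullback.lift_fst, pullback.lift_snd, pullback.diagonal_fst,
        pullback.diagonal_snd] at h1 h2
      exact h1.trans h2.symm
    rw [hψ, Spec.map_comp, Category.assoc, Category.assoc]
    congr 1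
    have : Spec.map (CommRingCat.ofHom (Ideal.Quotient.mk J)) = i.inv ≫ ι := (Iso.eq_inv_comp i).2 hi.symm
    rw [this, Category.assoc, Category.assoc, heq]

variable {k : Type u} [CommRing k]

theorem exists_closedImmersion_forall_eq {H Y : Over (Spec (CommRingCat.of k))} [IsSeparated Y.hom]
    (A : Type u) [CommRing A] [Algebra k A] (eA : H.left ≅ Spec (CommRingCat.of A))
    (heA : eA.hom ≫ Spec.map (CommRingCat.ofHom (algebraMap k A)) = H.hom)
    (k' : Type u) [CommRing k'] [Algebra k k'] [Module.FaithfullyFlat k k'] [Module.Projective k' (k' ⊗[k] A)]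
    (a : pullback H.hom Y.hom ⟶ Y.left) (ha : a ≫ Y.hom = pullback.snd H.hom Y.hom ≫ Y.hom) :
    ∃ (T : Scheme.{u}) (t : T ⟶ Y.left), IsClosedImmersion t ∧
      ∀ (Z : Scheme.{u}) (g : Z ⟶ Y.left), (∃ g' : Z ⟶ T, g' ≫ t = g) ↔
        pullback.fst (pullback.snd H.hom Y.hom) g ≫ a =
          pullback.fst (pullback.snd H.hom Y.hom) g ≫ pullback.snd H.hom Y.hom := by
  let f := pullback.snd H.hom Y.hom
  refine exists_closedImmersion_of_affine (fun Z g => pullback.fst f g ≫ a = pullback.fst f g ≫ f) ?_ ?_ ?_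
  · intro Z Z' h g hg
    let m : pullback f (h ≫ g) ⟶ pullback f g :=
      pullback.lift (pullback.fst _ _) (pullback.snd _ _ ≫ h) (by rw [Category.assoc]; exact pullback.condition)
    have hm : pullback.fst f (h ≫ g) = m ≫ pullback.fst f g := (pullback.lift_fst _ _ _).symm
    rw [hm, Category.assoc, Category.assoc, hg]
  · intro Z g hg
    choose W hW hWP using hg
    let 𝒰 := Z.openCoverOfIsOpenCover W (TopologicalSpace.IsOpenCover.mk (top_le_iff.1 fun z _ =>
      TopologicalSpace.Opens.mem_iSup.2 ⟨z, hW z⟩))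
    refine (Scheme.Cover.hom_ext (𝒰.pullback₁ (pullback.snd f g)) _ _ fun z => ?_)
    let m : pullback (pullback.snd f g) (𝒰.f z) ⟶ pullback f ((W z).ι ≫ g) :=
      pullback.lift (pullback.fst _ _ ≫ pullback.fst f g) (pullback.snd _ _) (by
        show (pullback.fst _ _ ≫ pullback.fst f g) ≫ f = pullback.snd _ _ ≫ 𝒰.f z ≫ g
        rw [Category.assoc, pullback.condition, ← Category.assoc, pullback.condition, Category.assoc])
    have hm : pullback.fst (pullback.snd f g) (𝒰.f z) ≫ pullback.fst f g = m ≫ pullback.fst f ((W z).ι ≫ g) :=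
      (pullback.lift_fst _ _ _).symm
    show pullback.fst _ (𝒰.f z) ≫ _ = pullback.fst _ (𝒰.f z) ≫ _
    rw [reassoc_of% hm, reassoc_of% hm, hWP z]
  · intro U
    obtain ⟨b, hb⟩ := Spec.map_surjective (U.2.fromSpec ≫ Y.hom)
    letI : Algebra k Γ(Y.left, U.1) := b.hom.toAlgebra
    let M := Γ(Y.left, U.1) ⊗[k] A
    have hmid : IsPullback (Spec.map (CommRingCat.ofHom (Algebra.TensorProduct.includeRight : A →ₐ[k] M).toRingHom) ≫ eA.inv)
        (Spec.map (CommRingCat.ofHom (algebraMap Γ(Y.left, U.1) M))) H.hom (U.2.fromSpec ≫ Y.hom) := by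
      rw [← hb, ← heA]
      refine ((IsPullback.of_hasPullback (Spec.map (CommRingCat.ofHom (algebraMap k Γ(Y.left, U.1))))
        (Spec.map (CommRingCat.ofHom (algebraMap k A)))).flip).of_iso
          (pullbackSpecIso k Γ(Y.left, U.1) A) eA.symm (Iso.refl _) (Iso.refl _) ?_ ?_ ?_ ?_
      · show pullback.snd _ _ ≫ eA.inv = _
        exact (congrArg (fun t => t ≫ eA.inv) (pullbackSpecIso_hom_snd k Γ(Y.left, U.1) A)).symm.trans
          (Category.assoc _ _ _)
      · rw [Iso.refl_hom, Category.comp_id]
        exact (pullbackSpecIso_hom_fst' k Γ(Y.left, U.1) A).symm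
      · simp
      · simp [RingHom.algebraMap_toAlgebra]
    let q : Spec (CommRingCat.of M) ⟶ pullback H.hom Y.hom :=
      pullback.lift (Spec.map (CommRingCat.ofHom (Algebra.TensorProduct.includeRight : A →ₐ[k] M).toRingHom) ≫ eA.inv)
        (Spec.map (CommRingCat.ofHom (algebraMap Γ(Y.left, U.1) M)) ≫ U.2.fromSpec)
        (hmid.w.trans (Category.assoc _ _ _).symm)
    have hq : IsPullback q (Spec.map (CommRingCat.ofHom (algebraMap Γ(Y.left, U.1) M))) f U.2.fromSpec := by
      refine IsPullback.of_right ?_ (pullback.lift_snd _ _ _) (IsPullback.of_hasPullback H.hom Y.hom)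
      rwa [pullback.lift_fst]
    obtain ⟨J, -, hJ⟩ := exists_ideal_equalizer (p := Y.hom) (q ≫ a) (q ≫ f)
      (by rw [Category.assoc, Category.assoc, ha])
    let C := Γ(Y.left, U.1) ⊗[k] k'
    letI : Algebra k' C := (Algebra.TensorProduct.includeRight : k' →ₐ[k] C).toRingHom.toAlgebra
    haveI : IsScalarTower k k' C :=
      IsScalarTower.of_algebraMap_eq fun x => ((Algebra.TensorProduct.includeRight : k' →ₐ[k] C).commutes x).symm
    haveI : Module.Projective C (C ⊗[Γ(Y.left, U.1)] M) := by
      haveI : Module.Projective C (C ⊗[k] A) :=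
        Module.Projective.of_equiv (TensorProduct.AlgebraTensorModule.cancelBaseChange k k' C C A)
      exact Module.Projective.of_equiv
        (TensorProduct.AlgebraTensorModule.cancelBaseChange k Γ(Y.left, U.1) C C A).symm
    obtain ⟨I, hI⟩ := exists_ideal_forall_iff Γ(Y.left, U.1) C M (J : Set M)
    refine ⟨I, fun R φ => ?_⟩
    letI : Algebra Γ(Y.left, U.1) R := φ.hom.toAlgebra
    have hR : IsPullback
        (Spec.map (CommRingCat.ofHom (Algebra.TensorProduct.includeRight : M →ₐ[Γ(Y.left, U.1)] R ⊗[Γ(Y.left, U.1)] M).toRingHom) ≫ q)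
        (Spec.map (CommRingCat.ofHom (algebraMap R (R ⊗[Γ(Y.left, U.1)] M)))) f (Spec.map φ ≫ U.2.fromSpec) := by
      refine IsPullback.paste_horiz ?_ hq
      refine ((IsPullback.of_hasPullback (Spec.map (CommRingCat.ofHom (algebraMap Γ(Y.left, U.1) R)))
        (Spec.map (CommRingCat.ofHom (algebraMap Γ(Y.left, U.1) M)))).flip).of_iso
          (pullbackSpecIso Γ(Y.left, U.1) R M) (Iso.refl _) (Iso.refl _) (Iso.refl _) ?_ ?_ ?_ ?_
      · rw [Iso.refl_hom, Category.comp_id]
        exact (pullbackSpecIso_hom_snd Γ(Y.left, U.1) R M).symm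
      · rw [Iso.refl_hom, Category.comp_id]
        exact (pullbackSpecIso_hom_fst' Γ(Y.left, U.1) R M).symm
      · simp
      · simp [RingHom.algebraMap_toAlgebra]
    show pullback.fst f _ ≫ a = pullback.fst f _ ≫ f ↔ _
    rw [← hR.isoPullback_inv_fst]
    simp only [Category.assoc, cancel_epi]
    rw [hJ, show RingHom.ker φ.hom = RingHom.ker (algebraMap Γ(Y.left, U.1) R) from rfl, ← hI]
    exact Iff.rfl

end Groth.L13.FixedLocus
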